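import Mathlib
import Groth.Prelude.Def_C1
import Groth.Prelude.Def_Pic
import Groth.Agent.Lib.Helper18.Cyc.C1Tensor
import Groth.Agent.Lib.Helper18.Cyc.C1Finite

/-!
# Orders of rational sections of invertible modules along codimension one points
-/

set_option autoImplicit false
set_option linter.style.haveILetI false
open CategoryTheory AlgebraicGeometry IsLocalRing

namespace Groth.Agent.Lib.Helper18.SDivLib

universe u

open Groth.Agent.Lib.Helper18.InvStalk Groth.Agent.Lib.Helper18.CycDiv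
open Groth.Agent.Lib.Helper18.C1Core
open Groth.Agent.Lib.Helper28 Groth.Agent.Lib.Helper28.QCohLoc Groth.Agent.Lib.Helper28.GenLocus
open Groth.Agent.Lib.Helper28.TensorGen Groth.Agent.Lib.Helper28.InvTensor

variable {X : Scheme.{u}}

/-- a one-dimensional local ring gives a quotient of dimension at most one -/
theorem krullDimLE_one_locQuot_of_dim {ξ x : X} (h : ξ ⤳ x)
    (hx : ringKrullDim (X.presheaf.stalk x) = 1) : Ring.KrullDimLE 1 (Cyc.LocQuot x ξ h) := by
  rw [Ring.krullDimLE_iff]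
  refine le_trans (ringKrullDim_quotient_le _) ?_
  rw [hx]
  rfl

variable {L N : X.Modules}

/-- the order of a tensor product of rational sections is the sum of the orders -/
theorem secOrdAt_tmSec [IsLocallyNoetherian X] (hL : PicF.IsInvertible L)
    (hN : PicF.IsInvertible N) {ξ x : X} (h : ξ ⤳ x)
    (hd : Ring.KrullDimLE 1 (Cyc.LocQuot x ξ h))
    (w : Cyc.secFibre L ξ) (w' : Cyc.secFibre N ξ) (hw : w ≠ 0) (hw' : w' ≠ 0) :
    Cyc.secOrdAt (CohB1.tensorMod L N) ξ x h (tmSec L N ξ w w') =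
      Cyc.secOrdAt L ξ x h w + Cyc.secOrdAt N ξ x h w' := by
  classical
  have hT := isInvertible_tensorMod hL hN
  obtain ⟨t, ht⟩ := exists_freeGen L hL x
  obtain ⟨t', ht'⟩ := exists_freeGen N hN x
  have hg := freeGen_stalkSpecializes L hL h ht.1
  have hg' := freeGen_stalkSpecializes N hN h ht'.1
  obtain ⟨φ, rfl⟩ := exists_smul_mk L hg w
  obtain ⟨χ, rfl⟩ := exists_smul_mk N hg' w'
  have hφ := residue_ne_zero_of_smul_mk_ne_zero L φ hw
  have hχ := residue_ne_zero_of_smul_mk_ne_zero N χ hw'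
  have hφχ : X.residue ξ (φ * χ) ≠ 0 := by
    rw [map_mul]
    exact mul_ne_zero hφ hχ
  rw [tmSec_smul_mk ξ hg hg' φ χ, ← tm_stalkSpecializes L N h t t',
    secOrdAt_smul_mk_of_freeGen _ hT h hd (freeGen_tm hL hN x ht ht') _ hφχ,
    secOrdAt_smul_mk_of_freeGen L hL h hd ht φ hφ,
    secOrdAt_smul_mk_of_freeGen N hN h hd ht' χ hχ, map_mul, ordAt_mul h hd hφ hχ]

/-- the prime divisors along which a nonzero rational section of an invertible module on an
integral locally Noetherian scheme has nonzero order form a locally finite family -/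
theorem secOrd_ne_zero_locallyFinite [IsIntegral X] [IsLocallyNoetherian X] (L : X.Modules)
    (hL : PicF.IsInvertible L) (s : Cyc.secFibre L (genericPoint ↥X)) (hs : s ≠ 0) :
    LocallyFinite (fun x : {x : ↥X // ringKrullDim ↑(X.presheaf.stalk x) = 1 ∧
        Cyc.secOrdAt L (genericPoint ↥X) x
          ((genericPoint_spec ↥X).specializes (Set.mem_univ x)) s ≠ 0} =>
      closure ({x.1} : Set ↥X)) := by
  classical
  intro z
  obtain ⟨V, hzV, e, he⟩ := exists_local_generator L hL z
  obtain ⟨_, ⟨W, hW : IsAffineOpen W, rfl⟩, hzW, hWV⟩ :=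
    X.isBasis_affineOpens.exists_subset_of_mem_open hzV V.isOpen
  refine ⟨W, W.isOpen.mem_nhds hzW, ?_⟩
  have hgV : (genericPoint ↥X) ∈ V :=
    ((genericPoint_spec ↥X).mem_open_set_iff V.isOpen).2 ⟨z, trivial, hzV⟩
  obtain ⟨ψ, hψ⟩ := exists_smul_mk L
    (show FreeGen (X.presheaf.stalk (genericPoint ↥X)) _ from he (genericPoint ↥X) hgV) s
  have hψ0 : X.residue (genericPoint ↥X) ψ ≠ 0 := residue_ne_zero_of_smul_mk_ne_zero L ψ (hψ ▸ hs)
  set δ : X → ℤ := fun y => if y = genericPoint ↥X then 1 else 0 with hδ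
  have hfin := finite_inter_support_divFun'' δ (genericPoint ↥X) (X.residue (genericPoint ↥X) ψ) hψ0 W hW
  have hg0 : ringKrullDim (X.presheaf.stalk (genericPoint ↥X)) = 0 :=
    ringKrullDim_eq_zero_of_field X.functionField
  refine (hfin.preimage (f := fun x : {x : ↥X // ringKrullDim ↑(X.presheaf.stalk x) = 1 ∧
        Cyc.secOrdAt L (genericPoint ↥X) x
          ((genericPoint_spec ↥X).specializes (Set.mem_univ x)) s ≠ 0} => x.1)
    (fun a _ b _ hab => Subtype.ext hab)).subset ?_
  rintro ⟨x, hx1, hx2⟩ ⟨y, hy1, hy2⟩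
  have hxy : x ⤳ y := specializes_iff_mem_closure.2 hy1
  have hxW : x ∈ W := hxy.mem_open W.isOpen hy2
  have hxV : x ∈ V := hWV hxW
  refine ⟨hxW, ?_⟩
  have hxg : x ≠ (genericPoint ↥X) := by
    intro h0
    rw [h0, hg0] at hx1
    exact zero_ne_one hx1
  have hsp : (genericPoint ↥X) ⤳ x := (genericPoint_spec ↥X).specializes (Set.mem_univ x)
  have hd := krullDimLE_one_locQuot_of_dim hsp hx1
  have hspe : L.presheaf.stalkSpecializes hsp (L.presheaf.germ V x hxV e) =
      L.presheaf.germ V (genericPoint ↥X) hgV e := TopCat.Presheaf.germ_stalkSpecializes_apply _ _ _ _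
  have hord : Cyc.secOrdAt L (genericPoint ↥X) x hsp s = Cyc.ordAt x (genericPoint ↥X) hsp (X.residue (genericPoint ↥X) ψ) := by
    rw [hψ, ← hspe, secOrdAt_smul_mk_of_freeGen L hL hsp hd
      (show FreeGen (X.presheaf.stalk x) _ from he x hxV) ψ hψ0]
  rw [Function.mem_support]
  unfold Cyc.divFun
  have hc : (genericPoint ↥X) ⤳ x ∧ δ x + 1 = δ (genericPoint ↥X) := by
    refine ⟨hsp, ?_⟩
    show (if x = (genericPoint ↥X) then (1 : ℤ) else 0) + 1 = if (genericPoint ↥X) = (genericPoint ↥X) then 1 else 0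
    rw [if_neg hxg, if_pos rfl]
    ring
  rw [dif_pos hc, ← hord]
  exact hx2

end Groth.Agent.Lib.Helper18.SDivLib
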